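import Mathlib
import Cfsg.Agent.H691.AN.Defs
import Cfsg.Agent.H424.DegTools
import Cfsg.Agent.StandardComponent.AltAut
import Cfsg.Agent.SmallSimple.DegreeData
import Cfsg.Agent.Blocks.Deflate
import Cfsg.Agent.OddOrderCharacters.InertiaAbelian

/-!
S4766, piece E1: a group with `cd(G) = cd(A_n)`, a normal subgroup `N ≅ A_n`, is `A_n × A`, `A` abelian.
-/

set_option autoImplicit false

namespace Cfsg.Agent.H142.AN

open Cfsg Cfsg.Agent.H691.AN Cfsg.Agent.Characters.Core Cfsg.Agent.H424.DegTools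

universe u v

/-- all degrees are `1` : the group is abelian -/
theorem comm_of_degrees {G : Type u} [Group G] [Finite G] (h : ∀ d ∈ charDegrees G, d = 1) (a b : G) :
    a * b = b * a := by
  classical
  have := finite_irr (G := G)
  have := Fintype.ofFinite (IrrCharacter G)
  have h1 := Cfsg.Agent.SmallSimple.DegreeData.sum_sq (G := G)
  have h2 : ∀ χ : IrrCharacter G, charDegree (χ : G → ℂ) ^ 2 = 1 := by
    intro χ
    rw [h _ ⟨χ, rfl⟩, one_pow]
  rw [Finset.sum_congr rfl (fun χ _ => h2 χ), Finset.sum_const, smul_eq_mul, mul_one, Finset.card_univ,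
    ← Nat.card_eq_fintype_card, card_irr] at h1
  have h3 : commProb G = 1 := by
    rw [commProb_def', h1, div_self]
    have : Nat.card G ≠ 0 := Nat.card_pos.ne'
    exact_mod_cast this
  have h4 := commProb_eq_one_iff.1 h3
  exact h4.is_comm.comm a b

/-- linear characters of subgroups of abelian groups extend -/
theorem exists_ext {Z : Type u} {A : Type v} [Group Z] [CommGroup A] [Finite A] (f : Z →* A)
    (hf : Function.Injective f) (l : Z →* ℂˣ) : ∃ m : A →* ℂˣ, ∀ z, m (f z) = l z := by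
  have : NeZero ((Monoid.exponent A : ℕ) : ℂ) :=
    ⟨Nat.cast_ne_zero.2 (Monoid.exponent_ne_zero_of_finite)⟩
  obtain ⟨m, hm⟩ := MonoidHom.domRestrict_surjective (G := A) ℂ f.range
    (l.comp (MonoidHom.ofInjective hf).symm.toMonoidHom)
  refine ⟨m, fun z => ?_⟩
  have h1 := DFunLike.congr_fun hm ⟨f z, z, rfl⟩
  have h2 : (MonoidHom.ofInjective hf).symm ⟨f z, z, rfl⟩ = z := by
    rw [MulEquiv.symm_apply_eq]
    rfl
  change m (f z) = l ((MonoidHom.ofInjective hf).symm ⟨f z, z, rfl⟩) at h1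
  rw [h1, h2]

/-- `G ↪ S × A`, `A` abelian, the first projection surjective: same degrees -/
theorem degrees_of_embed {G : Type u} {S : Type v} {A : Type*} [Group G] [Finite G] [Group S] [CommGroup A] [Finite A]
    (f₁ : G →* S) (hf₁ : Function.Surjective f₁) (f₂ : G →* A) (hinj : ∀ g, f₁ g = 1 → f₂ g = 1 → g = 1) :
    charDegrees G = charDegrees S := by
  classical
  refine Set.Subset.antisymm ?_ (charDegrees_of_surjective f₁ hf₁)
  intro d hd
  have := Fintype.ofFinite G
  obtain ⟨χ, hχ, h1⟩ := mem_charDegrees.1 hd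
  have hcen : f₁.ker ≤ Subgroup.center G := by
    intro z hz
    rw [Subgroup.mem_center_iff]
    intro g
    have h2 : g * z * g⁻¹ * z⁻¹ = 1 := by
      apply hinj
      · rw [map_mul, map_mul, map_mul, MonoidHom.mem_ker.1 hz, map_inv, map_inv, MonoidHom.mem_ker.1 hz]; group
      · rw [map_mul, map_mul, map_mul, map_inv, map_inv, mul_comm (f₂ g), mul_inv_cancel_right, mul_inv_cancel]
    have h3 : g * z = (g * z * g⁻¹ * z⁻¹) * (z * g) := by group
    rw [h3, h2, one_mul]
  -- the central character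
  have hχ1 : χ 1 ≠ 0 := isIrr_apply_one_ne_zero hχ
  have hω : ∀ z ∈ f₁.ker, ∀ g, χ (g * z) = χ z / χ 1 * χ g := by
    intro z hz g
    obtain ⟨w, -, hw⟩ := CharDeep.DegreeBound.exists_omega hχ (hcen hz)
    have h2 := hw 1
    rw [one_mul] at h2
    rw [h2, mul_div_assoc, div_self hχ1, mul_one, hw]
  let l₀ : f₁.ker →* ℂ :=
    { toFun := fun z => χ z / χ 1
      map_one' := by rw [OneMemClass.coe_one, div_self hχ1]
      map_mul' := by
        intro x y
        rw [Subgroup.coe_mul, hω y y.2 x]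
        field_simp }
  obtain ⟨m, hm⟩ := exists_ext (f₂.comp f₁.ker.subtype) (by
    rw [injective_iff_map_eq_one]
    intro z hz
    exact Subtype.ext (hinj z z.2 hz)) l₀.toHomUnits
  have hirr := OddOrderCharacters.InertiaAbelian.isIrr_mul_hom (m.comp f₂)⁻¹ hχ
  have hval : ∀ z : f₁.ker, (((m.comp f₂)⁻¹ (z : G) : ℂˣ) : ℂ) * χ z = χ 1 := by
    intro z
    have h2 : m (f₂ z) = l₀.toHomUnits z := hm z
    have h3 : ((m (f₂ z) : ℂˣ) : ℂ) = χ z / χ 1 := by
      rw [h2]; rfl
    have h4 : ((m (f₂ z) : ℂˣ) : ℂ) ≠ 0 := (m (f₂ z)).ne_zero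
    rw [MonoidHom.inv_apply, MonoidHom.comp_apply, Units.val_inv_eq_inv_val, h3]
    rw [h3] at h4
    have h5 : χ z ≠ 0 := by
      intro h6
      rw [h6, zero_div] at h4
      exact h4 rfl
    field_simp
  have : Fintype f₁.ker := Fintype.ofFinite _
  obtain ⟨χ', hχ'⟩ := Blocks.Deflate.exists_deflation f₁.ker _ hirr (by
    rw [Finset.sum_congr rfl (fun z _ => hval z), Finset.sum_const, nsmul_eq_mul]
    refine mul_ne_zero ?_ hχ1
    rw [Finset.card_univ]
    exact Nat.cast_ne_zero.2 Fintype.card_ne_zero)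
  have h5 : d ∈ charDegrees (G ⧸ f₁.ker) := by
    refine mem_charDegrees.2 ⟨χ', χ'.2, ?_⟩
    have h6 := congrFun hχ' 1
    have h7 := hval 1
    rw [OneMemClass.coe_one] at h7
    rw [h7] at h6
    rw [← h1, h6]
    rfl
  rwa [charDegrees_congr (QuotientGroup.quotientKerEquivOfSurjective f₁ hf₁)] at h5

/-- a retraction onto a normal subgroup -/
theorem exists_prod {H : Type u} [Group H] [Finite H] (N : Subgroup H) [N.Normal] {S : Type v} [Group S] [Finite S]
    (p : H →* S) (hp : Function.Injective (p.comp N.subtype)) (hs : Function.Surjective (p.comp N.subtype)) :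
    Nonempty (H ≃* S × (H ⧸ N)) := by
  have hinj : Function.Injective (p.prod (QuotientGroup.mk' N)) := by
    rw [injective_iff_map_eq_one]
    intro g hg
    have h1 : p g = 1 := congrArg Prod.fst hg
    have h2 : (QuotientGroup.mk' N) g = 1 := congrArg Prod.snd hg
    have h3 : g ∈ N := (QuotientGroup.eq_one_iff g).1 h2
    have h4 := hp (a₁ := ⟨g, h3⟩) (a₂ := 1) (by rw [map_one]; exact h1)
    exact congrArg Subtype.val h4
  have hc : Nat.card H = Nat.card (S × (H ⧸ N)) := by
    rw [Nat.card_prod, Subgroup.card_eq_card_quotient_mul_card_subgroup N, mul_comm]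
    congr 1
    exact Nat.card_congr (Equiv.ofBijective _ ⟨hp, hs⟩)
  exact ⟨MulEquiv.ofBijective _ ((Nat.bijective_iff_injective_and_card _).2 ⟨hinj, hc⟩)⟩

/-- the largest degree -/
theorem exists_max {G : Type u} [Group G] [Finite G] : ∃ b ∈ charDegrees G, ∀ d ∈ charDegrees G, d ≤ b := by
  have hfin : (charDegrees G).Finite :=
    (Set.finite_Iic (Nat.card G)).subset fun d hd => Nat.le_of_dvd Nat.card_pos (dvd_card hd)
  obtain ⟨b, hb, hmax⟩ := hfin.exists_maximal ⟨1, one_mem_degrees⟩
  refine ⟨b, hb, fun d hd => ?_⟩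
  by_contra hcon
  push Not at hcon
  exact absurd (hmax hd hcon.le) (not_le.2 hcon)

theorem alt_or_top {n : ℕ} (hn : 7 ≤ n) {K : Subgroup (Equiv.Perm (Fin n))} (hK : alternatingGroup (Fin n) ≤ K) :
    K = alternatingGroup (Fin n) ∨ K = ⊤ := by
  have : Nontrivial (Fin n) := Fin.nontrivial_iff_two_le.2 (by omega)
  have h1 : (alternatingGroup (Fin n)).index = 2 := alternatingGroup.index_eq_two
  have h2 := Subgroup.relIndex_mul_index hK
  rw [h1] at h2
  have h3 : (alternatingGroup (Fin n)).relIndex K ∣ 2 := ⟨_, h2.symm⟩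
  rcases (Nat.dvd_prime Nat.prime_two).1 h3 with h4 | h4
  · left
    exact le_antisymm (Subgroup.relIndex_eq_one.1 h4) hK
  · right
    rw [h4] at h2
    exact Subgroup.index_eq_one.1 (by omega)

/-- the action on `N ≅ A_n` -/
theorem exists_pi {n : ℕ} (hn : 7 ≤ n) {G : Type u} [Group G] (N : Subgroup G) [N.Normal] (e : N ≃* An n) :
    ∃ π : G →* Equiv.Perm (Fin n), (∀ x : N, π x = (e x : Equiv.Perm (Fin n))) := by
  obtain ⟨ψ, hψ⟩ := StandardComponent.AltAut.exists_autHom n hn
  obtain ⟨m, rfl⟩ : ∃ m, n = m + 2 := ⟨n - 2, by omega⟩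
  refine ⟨ψ.comp ((MulAut.congr e).toMonoidHom.comp MulAut.conjNormal), fun x => ?_⟩
  apply StandardComponent.AltAut.conj_unique (m := m) (by omega)
  intro y
  have h1 := hψ (MulAut.congr e (MulAut.conjNormal (x : G))) y
  change (ψ (MulAut.congr e (MulAut.conjNormal (x : G)))) * y * (ψ (MulAut.congr e (MulAut.conjNormal (x : G))))⁻¹ = _
  rw [← h1]
  have h2 : (MulAut.congr e (MulAut.conjNormal (x : G))) y = e (x * e.symm y * x⁻¹) := by
    change e (MulAut.conjNormal (x : G) (e.symm y)) = _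
    congr 1
  rw [h2, map_mul, map_mul, e.apply_symm_apply, map_inv]
  rfl

/-- **E1** -/
theorem e1_end {n : ℕ} (hn : 7 ≤ n) (o1 : charDegrees (Equiv.Perm (Fin n)) ≠ D n)
    (a6 : ∀ d ∈ D n, d = 1 ∨ n - 1 ≤ d) {G : Type u} [Group G] [Finite G] (h : charDegrees G = D n)
    (N : Subgroup G) [N.Normal] (e : N ≃* An n) :
    ∃ (A : Type) (_ : CommGroup A), Nonempty (G ≃* (An n × A)) := by
  obtain ⟨π, hπ⟩ := exists_pi hn N e
  obtain ⟨b, hb, hmax⟩ := exists_max (G := An n)
  have hb0 := pos_of_mem hb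
  have hle : alternatingGroup (Fin n) ≤ π.range := by
    intro y hy
    refine ⟨(e.symm ⟨y, hy⟩ : N), ?_⟩
    rw [hπ, e.apply_symm_apply]
  have hinj : ∀ g, π g = 1 → (QuotientGroup.mk' N) g = 1 → g = 1 := by
    intro g h1 h2
    have h3 : g ∈ N := (QuotientGroup.eq_one_iff g).1 h2
    have h4 := hπ ⟨g, h3⟩
    rw [h1] at h4
    have h5 : e ⟨g, h3⟩ = 1 := Subtype.ext h4.symm
    have h6 := (map_eq_one_iff e e.injective).1 h5
    exact congrArg Subtype.val h6
  -- degrees of `X`, if `A_n × X` is involved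
  have hdeg : ∀ c : ℕ, (∃ d ∈ D n, b * c ∣ d) → 0 < c → c = 1 := by
    rintro c ⟨d, hd, hcd⟩ hc
    have h1 := Nat.le_of_dvd (pos_of_mem hd) hcd
    have h2 := h1.trans (hmax d hd)
    have h3 : c ≤ 1 := Nat.le_of_mul_le_mul_left (by rwa [mul_one]) hb0
    omega
  rcases alt_or_top hn hle with hr | hr
  · -- `G = N C(N)`
    have hpi : ∀ g, π g ∈ alternatingGroup (Fin n) := fun g => by rw [← hr]; exact ⟨g, rfl⟩
    obtain ⟨E⟩ := exists_prod N (π.codRestrict (alternatingGroup (Fin n)) hpi) (by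
      intro x y hxy
      apply e.injective
      apply Subtype.ext
      rw [← hπ, ← hπ]
      exact congrArg Subtype.val hxy) (by
      intro y
      refine ⟨e.symm y, Subtype.ext ?_⟩
      change π (e.symm y : N) = _
      rw [hπ, e.apply_symm_apply])
    have hcomm : ∀ x y : G ⧸ N, x * y = y * x := by
      apply comm_of_degrees
      intro c hc
      refine hdeg c ⟨b * c, ?_, dvd_rfl⟩ (pos_of_mem hc)
      rw [← h, charDegrees_congr E]
      exact mul_mem_prod hb hc
    let i1 : CommGroup (G ⧸ N) := { (inferInstance : Group (G ⧸ N)) with mul_comm := hcomm }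
    let i2 : CommGroup (Shrink.{0} (G ⧸ N)) := inferInstance
    exact ⟨Shrink.{0} (G ⧸ N), i2, ⟨E.trans ((MulEquiv.refl _).prodCongr Shrink.mulEquiv.symm)⟩⟩
  · exfalso
    have hsurj : Function.Surjective π := MonoidHom.range_eq_top.1 hr
    set H := (alternatingGroup (Fin n)).comap π with hH
    have hHn : H.Normal := by rw [hH]; infer_instance
    have : Nontrivial (Fin n) := Fin.nontrivial_iff_two_le.2 (by omega)
    have hHi : H.index = 2 := by
      rw [hH, Subgroup.index_comap_of_surjective _ hsurj]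
      exact alternatingGroup.index_eq_two
    have hNH : N ≤ H := by
      intro x hx
      rw [hH, Subgroup.mem_comap]
      have := hπ ⟨x, hx⟩
      rw [this]
      exact (e ⟨x, hx⟩).2
    obtain ⟨E⟩ := exists_prod (N.subgroupOf H) ((π.comp H.subtype).codRestrict (alternatingGroup (Fin n))
      fun g => g.2) (by
      rintro ⟨x, hx⟩ ⟨y, hy⟩ hxy
      have h1 : π x = π y := congrArg Subtype.val hxy
      have h2 := hπ ⟨x, hx⟩
      have h3 := hπ ⟨y, hy⟩
      have h4 : e ⟨x, hx⟩ = e ⟨y, hy⟩ := by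
        apply Subtype.ext
        rw [← h2, ← h3]
        exact h1
      have h5 := congrArg Subtype.val (e.injective h4)
      exact Subtype.ext (Subtype.ext h5)) (by
      intro y
      refine ⟨⟨⟨(e.symm y : N), hNH (e.symm y).2⟩, (e.symm y).2⟩, Subtype.ext ?_⟩
      change π (e.symm y : N) = _
      rw [hπ, e.apply_symm_apply])
    have hcommH : ∀ x y : H ⧸ N.subgroupOf H, x * y = y * x := by
      apply comm_of_degrees
      intro c hc
      obtain ⟨d, hd, hd2, -⟩ := clifford_up H (c := b * c) (by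
        rw [charDegrees_congr E]
        exact mul_mem_prod hb hc)
      rw [h] at hd
      exact hdeg c ⟨d, hd, hd2⟩ (pos_of_mem hc)
    have hcomm : ∀ x y : G ⧸ N, x * y = y * x := by
      apply comm_of_degrees
      intro c hc
      have h1 : c ∈ D n := by
        rw [← h]
        exact charDegrees_of_surjective (QuotientGroup.mk' N) (QuotientGroup.mk'_surjective N) hc
      have h2 : c ∣ (H.map (QuotientGroup.mk' N)).index := by
        have : (H.map (QuotientGroup.mk' N)).Normal := hHn.map _ (QuotientGroup.mk'_surjective N)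
        refine ito hc _ ?_
        rintro _ ⟨x, hx, rfl⟩ _ ⟨y, hy, rfl⟩
        have h3 := hcommH (QuotientGroup.mk (⟨x, hx⟩ : H)) (QuotientGroup.mk (⟨y, hy⟩ : H))
        rw [← QuotientGroup.mk_mul, ← QuotientGroup.mk_mul, QuotientGroup.eq] at h3
        rw [← map_mul, ← map_mul]
        exact QuotientGroup.eq.2 h3
      have h3 : (H.map (QuotientGroup.mk' N)).index ∣ 2 := by
        rw [← hHi]
        exact Subgroup.index_map_dvd _ (QuotientGroup.mk'_surjective N)
      have h4 := Nat.le_of_dvd (by norm_num) (h2.trans h3)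
      rcases a6 c h1 with h5 | h5
      · exact h5
      · omega
    let i1 : CommGroup (G ⧸ N) := { (inferInstance : Group (G ⧸ N)) with mul_comm := hcomm }
    exact o1 (by rw [← h, degrees_of_embed π hsurj (QuotientGroup.mk' N) hinj])

end Cfsg.Agent.H142.AN
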